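import Cfsg.Agent.Lib.PerfectCentSylow.Twist
import Cfsg.Agent.Lib.Involutions.BrauerSuzuki
import Cfsg.Agent.Lib.PF.OddOrder
import Cfsg.Agent.Lib.PCore.Basic
import Mathlib.GroupTheory.SemidirectProduct

/-!
A perfect group acting on a group without nontrivial odd order normal subgroup and centralising a
Sylow `2`-subgroup acts trivially (classification free: Alperin, Z* and odd order theorem).
-/

set_option autoImplicit false
set_option linter.unusedSectionVars false

namespace CfsgLib.PerfectCentSylow

open Cfsg Cfsg.FusionSystem CfsgLib.Fusion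

universe u

variable {L : Type u} [Group L] [Finite L]

/-- An involutory automorphism from such a group is trivial. -/
theorem involution_trivial (S : Sylow 2 L) {A : Type u} [Group A] (act : A →* MulAut L)
    (hA : commutator A = ⊤) (hfix : ∀ a, ∀ x ∈ (S : Subgroup L), act a x = x)
    (hO : ∀ N : Subgroup L, N.Normal → Odd (Nat.card N) → N = ⊥) {t : A}
    (ht : ∀ y, act t (act t y) = y) : act t = 1 := by
  classical
  have : Fact (Nat.Prime 2) := ⟨Nat.prime_two⟩
  by_contra hne
  set τ : MulAut L := act t with hτ
  have hτ2 : τ * τ = 1 := MulEquiv.ext ht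
  have hord : orderOf τ = 2 := orderOf_eq_prime (by rw [pow_two, hτ2]) hne
  let B : Subgroup (MulAut L) := Subgroup.zpowers τ
  let φ : B →* MulAut L := B.subtype
  let J : Type u := L ⋊[φ] B
  have : Finite J := Finite.of_equiv (L × B) SemidirectProduct.equivProd.symm
  let tB : B := ⟨τ, Subgroup.mem_zpowers τ⟩
  let u : J := SemidirectProduct.inr tB
  have hu2 : orderOf u = 2 := by
    rw [orderOf_injective SemidirectProduct.inr SemidirectProduct.inr_injective, ← Subgroup.orderOf_coe, hord]
  have hau : ∀ x : L, u * SemidirectProduct.inl x * u⁻¹ = SemidirectProduct.inl (τ x) := fun x => by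
    rw [show τ x = φ tB x from rfl, SemidirectProduct.inl_aut, map_inv]
  have hiso : IsIsolatedInvolution u := by
    refine ⟨hu2, fun g hcomm => ?_⟩
    have hB : ∀ b : B, b * tB * b⁻¹ = tB := fun b => by
      have := (inferInstance : IsMulCommutative B)
      rw [mul_comm' b tB, mul_inv_cancel_right]
    set l := g.left with hl
    have hgu : g * u * g⁻¹ = SemidirectProduct.inl (l * (τ l)⁻¹) * u := by
      conv_lhs => rw [← SemidirectProduct.inl_left_mul_inr_right g]
      calc SemidirectProduct.inl l * SemidirectProduct.inr g.right * u *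
            (SemidirectProduct.inl l * SemidirectProduct.inr g.right)⁻¹
          = SemidirectProduct.inl l * SemidirectProduct.inr (g.right * tB * g.right⁻¹) *
            (SemidirectProduct.inl l)⁻¹ := by
              rw [map_mul, map_mul, map_inv, mul_inv_rev, hl]; simp only [u, mul_assoc]
        _ = _ := by rw [hB, map_mul, map_inv, ← hau l]; simp [u, mul_assoc]
    set s := l * (τ l)⁻¹ with hs
    rw [hgu] at hcomm ⊢
    have hτs : τ s = s := by
      refine SemidirectProduct.inl_injective (φ := φ) ?_
      rw [← hau s, mul_inv_eq_iff_eq_mul]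
      exact mul_right_cancel (show u * SemidirectProduct.inl s * u = SemidirectProduct.inl s * u * u by
        rw [mul_assoc u]; exact hcomm.eq)
    have hss : s * s = 1 := by
      have h1 : τ s = s⁻¹ := by rw [hs, map_mul, map_inv, hτ, ht]; group
      exact mul_eq_one_iff_eq_inv.2 (hτs.symm.trans h1)
    let K : Subgroup L := τ.toMonoidHom.eqLocus (MonoidHom.id L)
    have hSK : (S : Subgroup L) ≤ K := fun y hy => hfix t y hy
    have hsp : IsPGroup 2 (Subgroup.zpowers s) := by
      intro y
      obtain ⟨i, hi⟩ := Subgroup.mem_zpowers_iff.1 y.2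
      refine ⟨1, Subtype.ext ?_⟩
      rw [Subgroup.coe_pow, ← hi, pow_one, Subgroup.coe_one, ← zpow_natCast, ← zpow_mul, mul_comm,
        zpow_mul, zpow_natCast, pow_two, hss, one_zpow]
    obtain ⟨k, hk, hkS⟩ := exists_conj_into (K := K) (Y := (S : Subgroup L))
      (Subgroup.zpowers_le.2 (show s ∈ K from hτs)) hsp hSK (by
        refine le_antisymm (card_le_sylowCard hSK S.2) ?_
        rw [S.card_eq_multiplicity]
        refine Nat.pow_le_pow_right two_pos ?_
        exact (Nat.factorization_le_iff_dvd Nat.card_pos.ne' Nat.card_pos.ne').2 K.card_subgroup_dvd_card 2)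
    have hk' : τ k = k := hk
    have h := twist_trivial S act hA hfix ht (g := k * l) (by
      have h := hkS s (Subgroup.mem_zpowers s)
      convert h using 1
      rw [hs, ← hτ, map_mul, hk']; group)
    rw [← hτ, map_mul, hk', mul_left_cancel_iff] at h
    rw [hs, h, mul_inv_cancel, map_one, one_mul]
  have hz := CfsgLib.Involutions.zstar J u hiso
  refine hne (MulEquiv.ext fun l => ?_)
  have hmem := hz (SemidirectProduct.inl l)
  have e : SemidirectProduct.inl l * u * (SemidirectProduct.inl l)⁻¹ * u⁻¹ =
      SemidirectProduct.inl (l * (τ l)⁻¹) := by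
    rw [map_mul, map_inv, ← hau l]; simp [mul_assoc]
  rw [e] at hmem
  let O : Subgroup L := (pPrimeCore 2 J).comap (SemidirectProduct.inl)
  have hOodd : Odd (Nat.card O) := by
    have h1 : Nat.card O ∣ Nat.card (pPrimeCore 2 J) := by
      rw [Nat.card_congr (O.equivMapOfInjective (SemidirectProduct.inl : L →* J) SemidirectProduct.inl_injective).toEquiv]
      exact Subgroup.card_dvd_of_le (Subgroup.map_comap_le _ _)
    exact (Nat.Coprime.coprime_dvd_left h1 CfsgLib.PCore.pPrimeCore_coprime).symm |> Nat.coprime_two_left.1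
  have hOnorm : O.Normal := Subgroup.Normal.comap inferInstance _
  have h1 := hO O hOnorm hOodd
  have h2 : l * (τ l)⁻¹ ∈ O := hmem
  rw [h1, Subgroup.mem_bot, mul_inv_eq_one] at h2
  exact h2.symm

/-- The main lemma. -/
theorem act_trivial (S : Sylow 2 L) {A : Type u} [Group A] [Finite A] (act : A →* MulAut L)
    (hA : commutator A = ⊤) (hfix : ∀ a, ∀ x ∈ (S : Subgroup L), act a x = x)
    (hO : ∀ N : Subgroup L, N.Normal → Odd (Nat.card N) → N = ⊥) (a : A) : act a = 1 := by
  have hodd : Odd (Nat.card act.range) := by
    by_contra h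
    have h2 : 2 ∣ Nat.card act.range := even_iff_two_dvd.1 (Nat.not_odd_iff_even.1 h)
    have : Fact (Nat.Prime 2) := ⟨Nat.prime_two⟩
    obtain ⟨τ', hτ'⟩ := exists_prime_orderOf_dvd_card' 2 h2
    obtain ⟨t, ht'⟩ := τ'.2
    have hτ : orderOf (act t) = 2 := by rw [ht', Subgroup.orderOf_coe, hτ']
    have h1 := involution_trivial S act hA hfix hO (t := t) fun y => by
      rw [← MulAut.mul_apply, ← pow_two, ← hτ, pow_orderOf_eq_one, MulAut.one_apply]
    rw [show act t = 1 from h1, orderOf_one] at hτ
    omega
  have hsol : Group.IsSolvable act.range := CfsgLib.PF.oddSolvable _ hodd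
  have hperf : commutator act.range = ⊤ := by
    have h := congrArg (Subgroup.map act.rangeRestrict) hA
    rw [commutator_def, Subgroup.map_commutator, Subgroup.map_top_of_surjective _ act.rangeRestrict_surjective] at h
    rwa [commutator_def]
  by_contra hne
  have : Nontrivial act.range := ⟨⟨act a, a, rfl⟩, 1, fun e => hne (congrArg Subtype.val e)⟩
  exact (Group.IsSolvable.commutator_lt_top_of_nontrivial act.range).ne hperf

end CfsgLib.PerfectCentSylow
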