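import Cfsg.Agent.Lib.Fusion.Group
import Cfsg.Agent.Lib.FusionNormal.Alperin

/-!
A perfect group of automorphisms centralising a Sylow `2`-subgroup `S` of `L`: every map of the fusion
system of `L` on `S` is induced by an element fixed by a given involution of the group, and
consequently no element `g` has `g * t(g)⁻¹` nontrivial in `S`.
-/

set_option autoImplicit false
set_option linter.unusedSectionVars false

namespace CfsgLib.PerfectCentSylow

open Cfsg Cfsg.FusionSystem CfsgLib.Fusion CfsgLib.FusionNormal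

variable {L : Type*} [Group L] [Finite L] {A : Type*} [Group A]

variable (S : Sylow 2 L) (act : A →* MulAut L)

/-- The twist of an element normalising a subgroup with central Sylow centraliser has odd order. -/
theorem twist_odd (hA : commutator A = ⊤) (hfix : ∀ a, ∀ x ∈ (S : Subgroup L), act a x = x)
    {Q : Subgroup L} (hQ : Q ≤ (S : Subgroup L))
    (hsyl : Odd ((centralizerIn (S : Subgroup L) Q).relIndex (Subgroup.centralizer (Q : Set L))))
    (hcen : centralizerIn (S : Subgroup L) Q ≤ Q) {n : L} (hn : n ∈ Subgroup.normalizer (Q : Set L))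
    (a : A) : Odd (orderOf (n⁻¹ * act a n)) := by
  classical
  set C := Subgroup.centralizer (Q : Set L) with hC
  let Z : Subgroup C := (centralizerIn (S : Subgroup L) Q).subgroupOf C
  have hZc : Z ≤ Subgroup.center C := by
    rintro ⟨z, hz⟩ hzZ
    rw [Subgroup.mem_center_iff]
    rintro ⟨c, hc⟩
    exact Subtype.ext ((hc z (hcen hzZ)).symm)
  have hidx : Odd Z.index := hsyl
  have hkodd : Odd (Subgroup.center C).index := hidx.of_dvd_nat (Subgroup.index_dvd_of_le hZc)
  have hQfix : ∀ b : A, ∀ x ∈ Q, act b x = x := fun b x hx => hfix b x (hQ hx)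
  have hCinv : ∀ b : A, ∀ c ∈ C, act b c ∈ C := by
    intro b c hc x hx
    rw [← hQfix b x hx, ← map_mul, hc x hx, map_mul]
  have hz : ∀ b : A, n⁻¹ * act b n ∈ C := by
    intro b x hx
    have h1 : n * x * n⁻¹ ∈ Q := (Subgroup.mem_normalizer_iff.mp hn x).mp hx
    have h2 : act b n * x * (act b n)⁻¹ = n * x * n⁻¹ := by
      have := hQfix b _ h1
      rwa [map_mul, map_mul, map_inv, hQfix b x hx] at this
    calc x * (n⁻¹ * act b n) = n⁻¹ * (n * x * n⁻¹) * act b n := by group
      _ = n⁻¹ * (act b n * x * (act b n)⁻¹) * act b n := by rw [h2]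
      _ = n⁻¹ * act b n * x := by group
  set d : ℕ := Z.index with hd
  set k : ℕ := (Subgroup.center C).index with hk
  -- the projection of `C` to `Z`
  let π : C →* Subgroup.center C :=
    MonoidHom.mk' (fun c => MonoidHom.transferCenterPow C c ^ d) (fun c c' => by
      rw [map_mul, Commute.mul_pow]
      exact Subtype.ext (Subgroup.mem_center_iff.1 (MonoidHom.transferCenterPow C c').2 _))
  have hπval : ∀ c : C, ((π c : C) : L) = (c : L) ^ (k * d) := by
    intro c
    simp [π, pow_mul, hk]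
  have hπZ : ∀ c : C, (π c : C) ∈ Z := by
    intro c
    have h1 : (π c : C) = ((MonoidHom.transferCenterPow C c : C)) ^ d := by simp [π]
    rw [h1]
    have : Z.Normal := ⟨fun z hz c => by rwa [Subgroup.mem_center_iff.1 (hZc hz) c, mul_inv_cancel_right]⟩
    exact Z.pow_index_mem _
  let δ : A →* Subgroup.center C :=
    MonoidHom.mk' (fun b => π ⟨_, hz b⟩) (by
      intro b b'
      have e : (⟨_, hz (b * b')⟩ : C) =
          ⟨_, hz b⟩ * ⟨act b (n⁻¹ * act b' n), hCinv b _ (hz b')⟩ := by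
        refine Subtype.ext ?_
        simp only [map_mul, map_inv, MulAut.mul_apply, Subgroup.coe_mul]
        group
      rw [e, map_mul]
      congr 1
      refine Subtype.ext (Subtype.ext ?_)
      rw [hπval, hπval]
      simp only [← map_pow]
      apply hfix
      have := (hπZ ⟨_, hz b'⟩)
      rw [Subgroup.mem_subgroupOf, hπval] at this
      exact this.1)
  have h0 : δ a = 1 :=
    have hδ : commutator A ≤ δ.ker := Subgroup.commutator_le.2 fun b _ b' _ => by
      rw [MonoidHom.mem_ker, map_commutatorElement, commutatorElement_eq_one_iff_mul_comm]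
      exact Subtype.ext (Subgroup.mem_center_iff.1 (δ b').2 _)
    hδ (hA ▸ Subgroup.mem_top a)
  have h1 : (n⁻¹ * act a n) ^ (k * d) = 1 := by
    rw [← hπval ⟨_, hz a⟩, show π ⟨_, hz a⟩ = 1 from h0]; rfl
  exact (hkodd.mul hidx).of_dvd_nat (orderOf_dvd_of_pow_eq_one h1)

/-- A Sylow subgroup of the centraliser, moved into `S`. -/
theorem exists_move {P : Subgroup L} (hP : P ≤ (S : Subgroup L)) :
    ∃ x : L, P.map (MulAut.conj x).toMonoidHom ≤ (S : Subgroup L) ∧
      (centralizerIn (S : Subgroup L) P).map (MulAut.conj x).toMonoidHom ≤ (S : Subgroup L) ∧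
      Odd ((centralizerIn (S : Subgroup L) (P.map (MulAut.conj x).toMonoidHom)).relIndex
        (Subgroup.centralizer ((P.map (MulAut.conj x).toMonoidHom : Subgroup L) : Set L))) := by
  set C := Subgroup.centralizer (P : Set L) with hC
  obtain ⟨W, hW⟩ := ((S.2.to_le (inf_le_left : centralizerIn (S : Subgroup L) P ≤ S)).comap_subtype
    (K := C)).exists_le_sylow
  set W' := (W : Subgroup C).map C.subtype with hW'
  have hW'p : IsPGroup 2 W' := W.2.map _
  have hW'C : W' ≤ C := Subgroup.map_subtype_le _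
  have hle : W' ≤ Subgroup.normalizer (P : Set L) :=
    hW'C.trans (Subgroup.centralizer_le_normalizer (P : Set L))
  obtain ⟨T, hT⟩ := ((S.2.to_le hP).to_sup_of_normal_left' hW'p hle).exists_le_sylow
  obtain ⟨x, hx⟩ := MulAction.exists_smul_eq L T S
  have hTS : ∀ y ∈ (T : Subgroup L), x * y * x⁻¹ ∈ (S : Subgroup L) := by
    intro y hy
    rw [← hx, Sylow.coe_subgroup_smul, Subgroup.pointwise_smul_def]
    exact ⟨y, hy, rfl⟩
  have hCW : centralizerIn (S : Subgroup L) P ≤ W' := fun y hy =>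
    ⟨⟨y, hy.2⟩, hW (Subgroup.mem_comap.mpr hy), rfl⟩
  refine ⟨x, ?_, ?_, ?_⟩
  · rintro _ ⟨y, hy, rfl⟩; exact hTS y (hT (Subgroup.mem_sup_left hy))
  · rintro _ ⟨y, hy, rfl⟩; exact hTS y (hT (Subgroup.mem_sup_right (hCW hy)))
  · have h1 : Odd (W'.relIndex C) := by
      rw [Subgroup.relIndex, Subgroup.subgroupOf, hW',
        Subgroup.comap_map_eq_self_of_injective C.subtype_injective]
      exact Nat.not_even_iff_odd.1 fun h => W.not_dvd_index (even_iff_two_dvd.1 h)
    have h2 : (W'.map (MulAut.conj x).toMonoidHom).relIndex (C.map (MulAut.conj x).toMonoidHom) =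
        W'.relIndex C := Subgroup.relIndex_map_map_of_injective _ _ (MulAut.conj x).injective
    rw [← centralizer_map_conj]
    refine (h2 ▸ h1).of_dvd_nat (Subgroup.relIndex_dvd_of_le_left _ (le_inf ?_ ?_))
    · rintro _ ⟨y, hy, rfl⟩; exact hTS y (hT (Subgroup.mem_sup_right hy))
    · rw [← centralizer_map_conj]; exact Subgroup.map_mono hW'C

/-- Every fusion map is induced by an element fixed by `act t`. -/
theorem exists_fixed_rep (hA : commutator A = ⊤) (hfix : ∀ a, ∀ x ∈ (S : Subgroup L), act a x = x)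
    {t : A} (ht : ∀ y, act t (act t y) = y) {P : Subgroup L} (hP : P ≤ (S : Subgroup L)) {g : L}
    (hg : ∀ x ∈ P, g * x * g⁻¹ ∈ (S : Subgroup L)) :
    ∃ g', act t g' = g' ∧ ∀ x ∈ P, g' * x * g'⁻¹ = g * x * g⁻¹ := by
  have : Fact (Nat.Prime 2) := ⟨Nat.prime_two⟩
  refine alperin_induction (F := groupFusionSystem (S : Subgroup L)) S.2 (group_saturated S)
    (fun P f => ∃ g', act t g' = g' ∧ ∀ x ∈ P, g' * x * g'⁻¹ = f x)
    (fun _ ⟨g', h, he⟩ e => ⟨g', h, fun x hx => (he x hx).trans (e x hx)⟩)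
    (fun _ ⟨g', h, he⟩ hR => ⟨g', h, fun x hx => he x (hR hx)⟩) ?_ ?_ ?_ P (fun x => g * x * g⁻¹)
    ⟨conjHom P g, group_conjHom_mem hP hg, fun _ => rfl⟩
  · rintro P R f f' - ⟨g₁, h₁, e₁⟩ - ⟨g₂, h₂, e₂⟩ hm
    refine ⟨g₂ * g₁, by rw [map_mul, h₂, h₁], fun x hx => ?_⟩
    show g₂ * g₁ * x * (g₂ * g₁)⁻¹ = f' (f x)
    rw [← e₂ _ (hm x hx), ← e₁ x hx]
    group
  · rintro P R f f' - ⟨g₁, h₁, e₁⟩ hR - hinv
    refine ⟨g₁⁻¹, by rw [map_inv, h₁], fun y hy => ?_⟩
    obtain ⟨x, hx, rfl⟩ := (show (y : L) ∈ f '' (P : Set L) by rw [hR]; exact hy)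
    rw [hinv x hx, ← e₁ x hx]
    group
  · intro Q _ hQc _ _ f hf hfQ
    obtain ⟨φ, ⟨hQS, -, n, hn⟩, hφ⟩ := hf
    have hconj : ∀ x ∈ Q, f x = n * x * n⁻¹ := fun x hx => (hφ ⟨x, hx⟩).symm.trans (hn ⟨x, hx⟩)
    have hnN : n ∈ Subgroup.normalizer (Q : Set L) := by
      have hmap : Q.map (MulAut.conj n).toMonoidHom = Q := by
        refine SetLike.coe_injective ?_
        rw [Subgroup.coe_map]
        refine (Set.image_congr fun x hx => ?_).trans hfQ
        exact (hconj x hx).symm
      refine Subgroup.mem_normalizer_iff.2 fun y => ⟨fun hy => hmap.le ⟨y, hy, rfl⟩, fun hy => ?_⟩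
      obtain ⟨w, hw, he⟩ := hmap.ge hy
      rwa [← (MulAut.conj n).injective he]
    obtain ⟨x, hx1, -, hx3⟩ := exists_move S hQS
    set Q' := Q.map (MulAut.conj x).toMonoidHom with hQ'
    have hcen' : centralizerIn (S : Subgroup L) Q' ≤ Q' :=
      hQc.2 Q' ⟨conjHom Q x, group_conjHom_mem hQS (fun y hy => hx1 ⟨y, hy, rfl⟩), range_of_conj fun _ => rfl⟩
    have hC : Subgroup.centralizer (Q' : Set L) =
        (Subgroup.centralizer (Q : Set L)).map (MulAut.conj x).toMonoidHom := (centralizer_map_conj Q x).symm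
    have hsyl : Odd ((centralizerIn (S : Subgroup L) Q).relIndex (Subgroup.centralizer (Q : Set L))) := by
      have hle : (centralizerIn (S : Subgroup L) Q') ≤
          (centralizerIn (S : Subgroup L) Q).map (MulAut.conj x).toMonoidHom := by
        intro y hy
        obtain ⟨z, hz, rfl⟩ := hcen' hy
        refine ⟨z, ⟨hQS hz, ?_⟩, rfl⟩
        have h := hy.2
        rw [← centralizer_map_conj] at h
        obtain ⟨w, hw, he⟩ := h
        rwa [← (MulAut.conj x).injective he]
      have h := hx3.of_dvd_nat (Subgroup.relIndex_dvd_of_le_left _ hle)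
      rwa [hC, Subgroup.relIndex_map_map_of_injective _ _ (MulAut.conj x).injective] at h
    have hodd := twist_odd S act hA hfix hQS hsyl
      (hQc.2 Q ⟨conjHom Q 1, group_conjHom_mem hQS (fun y hy => by simpa using hQS hy),
        (range_of_conj fun _ => rfl).trans (by rw [map_one]; exact Subgroup.map_id Q)⟩) hnN t
    set z := n⁻¹ * act t n with hz
    have hzC : z ∈ Subgroup.centralizer (Q : Set L) := by
      intro y hy
      have h1 : n * y * n⁻¹ ∈ Q := (Subgroup.mem_normalizer_iff.mp hnN y).mp hy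
      have h2 := hfix t _ (hQS h1)
      rw [map_mul, map_mul, map_inv, hfix t y (hQS hy)] at h2
      calc y * z = n⁻¹ * (n * y * n⁻¹) * act t n := by rw [hz]; group
        _ = n⁻¹ * (act t n * y * (act t n)⁻¹) * act t n := by rw [h2]
        _ = z * y := by rw [hz]; group
    obtain ⟨j, hj⟩ := hodd
    have hzinv : act t z = z⁻¹ := by
      rw [hz, map_mul, map_inv, ht]; group
    refine ⟨n * z ^ (j + 1), ?_, fun y hy => ?_⟩
    · have e : z ^ (2 * j + 1) = 1 := hj ▸ pow_orderOf_eq_one z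
      have e2 : z * (z⁻¹) ^ (j + 1) = z ^ (j + 1) := by
        rw [inv_pow, mul_inv_eq_iff_eq_mul, ← pow_add, show j + 1 + (j + 1) = (2 * j + 1) + 1 by ring,
          pow_succ, e, one_mul]
      rw [map_mul, map_pow, hzinv, show act t n = n * z by rw [hz]; group, mul_assoc, e2]
    · have hw := Subgroup.pow_mem _ hzC (j + 1) y hy
      rw [hconj y hy]
      calc n * z ^ (j + 1) * y * (n * z ^ (j + 1))⁻¹ = n * (z ^ (j + 1) * y) * (z ^ (j + 1))⁻¹ * n⁻¹ := by group
        _ = n * (y * z ^ (j + 1)) * (z ^ (j + 1))⁻¹ * n⁻¹ := by rw [hw]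
        _ = n * y * n⁻¹ := by group

/-- The key non-fusion statement. -/
theorem twist_trivial (hA : commutator A = ⊤) (hfix : ∀ a, ∀ x ∈ (S : Subgroup L), act a x = x)
    {t : A} (ht : ∀ y, act t (act t y) = y) {g : L} (hg : g * (act t g)⁻¹ ∈ (S : Subgroup L)) :
    act t g = g := by
  suffices H : ∀ (m : ℕ) (g : L), g * (act t g)⁻¹ ∈ (S : Subgroup L) →
      Nat.card (S : Subgroup L) - Nat.card (centralizerIn (S : Subgroup L)
        (Subgroup.zpowers (g * (act t g)⁻¹))) < m → act t g = g from H _ g hg (Nat.lt_succ_self _)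
  have : Fact (Nat.Prime 2) := ⟨Nat.prime_two⟩
  intro m
  induction m with
  | zero => intro g _ h; omega
  | succ m ih =>
  intro g hs hm
  set s := g * (act t g)⁻¹ with hsdef
  set P := centralizerIn (S : Subgroup L) (Subgroup.zpowers s) with hP
  have hPS : P ≤ (S : Subgroup L) := inf_le_left
  have hsP : s ∈ P := ⟨hs, fun y hy => by
    obtain ⟨i, rfl⟩ := Subgroup.mem_zpowers_iff.1 hy
    exact ((Commute.refl s).zpow_left i).eq⟩
  have hPs : ∀ x ∈ P, Commute x s := fun x hx => (hx.2 s (Subgroup.mem_zpowers s)).symm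
  -- fixed elements
  let K : Subgroup L := (act t).toMonoidHom.eqLocus (MonoidHom.id L)
  have hK : ∀ y, y ∈ K ↔ act t y = y := fun y => Iff.rfl
  have hgK : P.map (MulAut.conj g⁻¹).toMonoidHom ≤ K := by
    rintro _ ⟨x, hx, rfl⟩
    rw [hK]
    show act t (g⁻¹ * x * g⁻¹⁻¹) = g⁻¹ * x * g⁻¹⁻¹
    rw [inv_inv, map_mul, map_mul, map_inv, hfix t x (hPS hx), show act t g = s⁻¹ * g by rw [hsdef]; group]
    calc (s⁻¹ * g)⁻¹ * x * (s⁻¹ * g) = g⁻¹ * (s * x) * s⁻¹ * g := by group
      _ = g⁻¹ * (x * s) * s⁻¹ * g := by rw [(hPs x hx).eq]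
      _ = g⁻¹ * x * g := by group
  have hSK : (S : Subgroup L) ≤ K := fun y hy => (hK y).2 (hfix t y hy)
  obtain ⟨k, hk, hkS⟩ := exists_conj_into hgK ((S.2.to_le hPS).map _) hSK (by
    apply le_antisymm (card_le_sylowCard hSK S.2)
    rw [S.card_eq_multiplicity]
    refine Nat.pow_le_pow_right two_pos ?_
    exact (Nat.factorization_le_iff_dvd Nat.card_pos.ne' Nat.card_pos.ne').2 K.card_subgroup_dvd_card 2)
  set g₁ := g * k⁻¹ with hg₁
  have hs₁ : g₁ * (act t g₁)⁻¹ = s := by
    rw [hg₁, hsdef, map_mul, map_inv, (hK k).1 hk]; group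
  have hmove : ∀ x ∈ P, g₁⁻¹ * x * g₁⁻¹⁻¹ ∈ (S : Subgroup L) := fun x hx => by
    have h := hkS _ ⟨x, hx, rfl⟩
    simp only [MulEquiv.coe_toMonoidHom, MulAut.conj_apply] at h
    convert h using 1
    rw [hg₁]; group
  obtain ⟨g', hg', he'⟩ := exists_fixed_rep S act hA hfix ht hPS hmove
  set h := g₁ * g' with hh
  have hhC : h ∈ Subgroup.centralizer (P : Set L) := fun x hx => by
    have e := he' x hx
    calc x * h = g₁ * (g₁⁻¹ * x * g₁⁻¹⁻¹) * g' := by rw [hh]; group
      _ = g₁ * (g' * x * g'⁻¹) * g' := by rw [e]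
      _ = h * x := by rw [hh]; group
  have hhs : h * (act t h)⁻¹ = s := by
    rw [hh, map_mul, hg', ← hs₁]; group
  -- move to a fully centralised conjugate
  obtain ⟨x, hx1, hx2, hx3⟩ := exists_move S hPS
  obtain ⟨x', hx', hxe⟩ := exists_fixed_rep S act hA hfix ht hPS (fun y hy => hx1 ⟨y, hy, rfl⟩)
  set P' := P.map (MulAut.conj x).toMonoidHom with hP'
  set h' := x' * h * x'⁻¹ with hh'
  set s' := x' * s * x'⁻¹ with hs'def
  have hs' : h' * (act t h')⁻¹ = s' := by
    rw [hh', hs'def, ← hhs, map_mul, map_mul, map_inv, hx']; group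
  have hs'P : s' ∈ P' := ⟨s, hsP, (hxe s hsP).symm⟩
  have hh'C : h' ∈ Subgroup.centralizer (P' : Set L) := by
    rintro _ ⟨y, hy, rfl⟩
    show x * y * x⁻¹ * h' = h' * (x * y * x⁻¹)
    rw [← hxe y hy, hh']
    calc x' * y * x'⁻¹ * (x' * h * x'⁻¹) = x' * (y * h) * x'⁻¹ := by group
      _ = x' * (h * y) * x'⁻¹ := by rw [hhC y hy]
      _ = x' * h * x'⁻¹ * (x' * y * x'⁻¹) := by group
  have hone : s = 1 → act t g = g := fun e => (mul_inv_eq_one.1 (hsdef ▸ e)).symm
  by_cases hcen : centralizerIn (S : Subgroup L) P' ≤ P'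
  · have hodd := twist_odd S act hA hfix hx1 hx3 hcen (Subgroup.centralizer_le_normalizer _ hh'C) t
    have e : h'⁻¹ * act t h' = h'⁻¹ * s'⁻¹ * h' := by rw [← hs']; group
    have e' : orderOf (h'⁻¹ * act t h') = orderOf s := by
      rw [e, show h'⁻¹ * s'⁻¹ * h' = MulAut.conj (h'⁻¹ * x') s⁻¹ by
        rw [hs'def, MulAut.conj_apply]; group, MulEquiv.orderOf_eq, orderOf_inv]
    rw [e'] at hodd
    refine hone (orderOf_eq_one_iff.1 ?_)
    obtain ⟨i, hi⟩ := IsPGroup.iff_orderOf.1 S.2 ⟨s, hs⟩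
    rw [Subgroup.orderOf_mk] at hi
    rw [hi] at hodd ⊢
    rcases i with _ | i
    · rfl
    · exact absurd hodd (Nat.not_odd_iff_even.2 ⟨2 ^ i, by ring⟩)
  · have hgrow : P' ⊔ centralizerIn (S : Subgroup L) P' ≤
        centralizerIn (S : Subgroup L) (Subgroup.zpowers s') := by
      refine sup_le (fun y hy => ⟨hx1 hy, ?_⟩) (fun y hy => ⟨hy.1, ?_⟩)
      all_goals rintro z hz; obtain ⟨i, rfl⟩ := Subgroup.mem_zpowers_iff.1 hz
      · obtain ⟨w, hw, rfl⟩ := hy
        refine (Commute.zpow_left ?_ i).eq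
        show s' * (x * w * x⁻¹) = x * w * x⁻¹ * s'
        rw [← hxe w hw, hs'def]
        calc x' * s * x'⁻¹ * (x' * w * x'⁻¹) = x' * (s * w) * x'⁻¹ := by group
          _ = x' * (w * s) * x'⁻¹ := by rw [(hPs w hw).eq]
          _ = _ := by group
      · exact (Commute.zpow_left (hy.2 s' hs'P) i).eq
    have hlt : Nat.card P < Nat.card (centralizerIn (S : Subgroup L) (Subgroup.zpowers s')) := by
      rw [← card_map_conj P x]
      refine lt_of_lt_of_le ?_ (Subgroup.card_le_of_le hgrow)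
      refine (Subgroup.card_le_of_le le_sup_left).lt_of_ne fun e => hcen ?_
      exact le_sup_right.trans (Subgroup.eq_of_le_of_card_ge le_sup_left e.ge).ge
    have hle := Subgroup.card_le_of_le (inf_le_left :
      centralizerIn (S : Subgroup L) (Subgroup.zpowers s') ≤ (S : Subgroup L))
    have hfin := ih h' (hs' ▸ hx1 hs'P) (by
      rw [hs']
      exact lt_of_lt_of_le (Nat.sub_lt_sub_left (hlt.trans_le hle) hlt) (Nat.lt_succ_iff.1 hm))
    refine hone ?_
    have : s' = 1 := by rw [← hs', hfin, mul_inv_cancel]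
    exact conj_eq_one_iff.1 (hs'def ▸ this)

end CfsgLib.PerfectCentSylow
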